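import Groth.Agent.DimTrdegLib.Local
import Groth.Agent.DimIneqLib.Scheme
import Mathlib

/-! # The dimension function over a Prüfer domain -/

set_option autoImplicit false
universe u
open IsLocalRing
open scoped TensorProduct

namespace PruferDimLib

/-- integral relative dimension at a prime -/
noncomputable def trN (R S : Type u) [CommRing R] [CommRing S] [Algebra R S] (Q : Ideal S) : ℕ :=
  Cardinal.toNat (Algebra.trdeg (R ⧸ Q.under R) (S ⧸ Q))

theorem trN_eq_of_residue (R S : Type u) [CommRing R] [CommRing S] [Algebra R S] (Q : Ideal S) [Q.IsPrime]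
    {k K : Type u} [Field k] [Field K] (ψR : R →+* k) (ψS : S →+* K) (g : k →+* K)
    (hR : RingHom.ker ψR = Q.under R) (hS : RingHom.ker ψS = Q) (fR : DimIneqLib.IsFrac ψR)
    (fS : DimIneqLib.IsFrac ψS) (hg : g.comp ψR = ψS.comp (algebraMap R S)) (e : ℕ)
    (he : DimIneqLib.trH g = e) : trN R S Q = e := by
  haveI : Q.LiesOver (Q.under R) := ⟨rfl⟩
  have h := DimIneqLib.trH_eq Q (Q.under R) ψR ψS hR hS fR fS g hg
  rw [he] at h
  have h2 : Algebra.trdeg (R ⧸ Q.under R) (S ⧸ Q) = (e : Cardinal) := Cardinal.toENat_eq_natCast.1 h.symm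
  simp [trN, h2]

theorem isFrac_residue {R : Type u} [CommRing R] (q : Ideal R) [q.IsPrime] :
    DimIneqLib.IsFrac ((residue (Localization.AtPrime q)).comp (algebraMap R (Localization.AtPrime q))) ∧
      RingHom.ker ((residue (Localization.AtPrime q)).comp (algebraMap R (Localization.AtPrime q))) = q := by
  refine ⟨fun z => ?_, ?_⟩
  · obtain ⟨b, rfl⟩ := residue_surjective z
    obtain ⟨⟨a, s⟩, rfl⟩ := IsLocalization.mk'_surjective q.primeCompl b
    refine ⟨a, s, fun h => ?_, ?_⟩
    · exact s.2 ((IsLocalization.AtPrime.to_map_mem_maximal_iff (Localization.AtPrime q) q (s : R)).1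
        ((residue_eq_zero_iff _).1 h))
    · show residue (Localization.AtPrime q) _ * residue (Localization.AtPrime q) (algebraMap R _ s) = _
      rw [← map_mul, IsLocalization.mk'_spec]
      rfl
  · rw [← RingHom.comap_ker, IsLocalRing.ker_residue]
    exact Localization.AtPrime.comap_maximalIdeal

section core

variable (R S : Type u) [CommRing R] [IsDomain R] [CommRing S] [IsDomain S] [Algebra R S] [Algebra.FiniteType R S]
  [FaithfulSMul R S]

theorem flat (hR : ∀ (p : Ideal R) [p.IsPrime], ValuationRing (Localization.AtPrime p)) : Module.Flat R S := by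
  rw [Module.Flat.flat_iff_torsion_eq_bot_of_valuationRing_localization_isMaximal (fun P hP => by haveI := hP.isPrime; exact hR P),
    ← Submodule.isTorsionFree_iff_torsion_eq_bot]
  infer_instance

set_option maxHeartbeats 1600000 in
set_option synthInstance.maxHeartbeats 200000 in
theorem core (hR : ∀ (p : Ideal R) [p.IsPrime], ValuationRing (Localization.AtPrime p)) (Q : Ideal S) [Q.IsPrime] :
    ∃ d e : ℕ, Algebra.trdeg R S = (d + e : ℕ) ∧ trN R S Q = e ∧
      (Q.under R = ⊥ → Q ≠ ⊥ → 1 ≤ d) ∧
      ((Q.under R = ⊥ ∧ 2 ≤ d) ∨ (Q.under R ≠ ⊥ ∧ 1 ≤ d) → ∃ Q' : Ideal S, Q'.IsPrime ∧ ⊥ < Q' ∧ Q' < Q) := by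
  classical
  let q := Q.under R
  haveI : Q.LiesOver q := ⟨rfl⟩
  let A := Localization.AtPrime q
  let B := Localization.AtPrime Q
  haveI : Module.Flat R S := flat R S hR
  letI : Algebra A B := Localization.AtPrime.algebraOfLiesOver q Q
  haveI : IsScalarTower R A B := inferInstance
  haveI : IsLocalHom (algebraMap A B) := inferInstance
  haveI : Algebra.EssFiniteType A B := by
    haveI : Algebra.EssFiniteType S B := Algebra.EssFiniteType.of_isLocalization B Q.primeCompl
    haveI : Algebra.EssFiniteType R B := Algebra.EssFiniteType.comp R S B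
    exact Algebra.EssFiniteType.of_comp R A B
  haveI : Module.Flat R B := Module.Flat.trans R S B
  haveI : Module.Flat A B := (Module.flat_iff_of_isLocalization A q.primeCompl B).2 ‹_›
  have hinjA : Function.Injective (algebraMap R A) := IsLocalization.injective A q.primeCompl_le_nonZeroDivisors
  have hinjB : Function.Injective (algebraMap S B) := IsLocalization.injective B Q.primeCompl_le_nonZeroDivisors
  have hRB : Function.Injective (algebraMap R B) := by
    rw [IsScalarTower.algebraMap_eq R S B]
    exact hinjB.comp (FaithfulSMul.algebraMap_injective R S)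
  haveI : FaithfulSMul R A := (faithfulSMul_iff_algebraMap_injective _ _).2 hinjA
  haveI : FaithfulSMul S B := (faithfulSMul_iff_algebraMap_injective _ _).2 hinjB
  haveI : IsDomain A := IsLocalization.isDomain_localization q.primeCompl_le_nonZeroDivisors
  haveI : IsDomain B := IsLocalization.isDomain_localization Q.primeCompl_le_nonZeroDivisors
  haveI : FaithfulSMul A B := by
    rw [faithfulSMul_iff_algebraMap_injective, injective_iff_map_eq_zero]
    intro a ha
    obtain ⟨⟨r, s⟩, rfl⟩ := IsLocalization.mk'_surjective q.primeCompl a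
    have h : algebraMap A B (IsLocalization.mk' A r s * algebraMap R A s) = 0 := by rw [map_mul, ha, zero_mul]
    rw [IsLocalization.mk'_spec, ← IsScalarTower.algebraMap_apply] at h
    dsimp only at h ⊢
    rw [show r = 0 from hRB (h.trans (map_zero _).symm)]
    exact IsLocalization.mk'_zero _
  obtain ⟨d, e, hd, he, hde⟩ := DimTrdegLib.formula_local (A := A) (B := B)
  refine ⟨d, e, ?_, ?_, ?_, ?_⟩
  · haveI : Algebra.IsAlgebraic R A := IsLocalization.isAlgebraic A q.primeCompl
    haveI : Algebra.IsAlgebraic S B := IsLocalization.isAlgebraic B Q.primeCompl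
    have h1 := trdeg_add_eq R S (A := B)
    have h2 := trdeg_add_eq R A (A := B)
    rw [trdeg_eq_zero (R := S) (A := B), add_zero] at h1
    rw [trdeg_eq_zero (R := R) (A := A), zero_add] at h2
    rw [h1, ← h2]; exact hde
  · refine trN_eq_of_residue R S Q _ _ (algebraMap (ResidueField A) (ResidueField B))
      (isFrac_residue q).2 (isFrac_residue Q).2 (isFrac_residue q).1 (isFrac_residue Q).1 ?_ e
      (DimIneqLib.trH_eq_natCast ?_)
    · ext r
      show algebraMap (ResidueField A) (ResidueField B) (residue A (algebraMap R A r)) =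
        residue B (algebraMap S B (algebraMap R S r))
      rw [← IsScalarTower.algebraMap_apply R S B, IsScalarTower.algebraMap_apply R A B]
      rfl
    · convert he using 2
      all_goals first | rfl | exact Algebra.algebra_ext _ _ fun _ => rfl
  · intro hq hQ
    by_contra hd0
    have hd0' : d = 0 := by omega
    have hm : Ideal.map (algebraMap A B) (maximalIdeal A) = ⊥ := by
      rw [eq_bot_iff, ← Localization.AtPrime.map_eq_maximalIdeal, Ideal.map_le_iff_le_comap, Ideal.map_le_iff_le_comap]
      intro r hr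
      have hr' : r ∈ (⊥ : Ideal R) := hq.le hr
      rw [Ideal.mem_bot.1 hr']
      exact zero_mem _
    rw [ringKrullDim_eq_of_ringEquiv ((Ideal.quotEquivOfEq hm).trans (RingEquiv.quotientBot B)),
      IsLocalization.AtPrime.ringKrullDim_eq_height Q B, hd0'] at hd
    have h0 : Q.height = 0 := by exact_mod_cast hd
    rw [Ideal.height_eq_zero_iff] at h0
    exact hQ (le_bot_iff.1 (h0.2 ⟨Ideal.isPrime_bot, le_rfl⟩ bot_le))
  · intro hcase
    have hd1 : 1 ≤ d := by omega
    let π : S →+* B ⧸ Ideal.map (algebraMap A B) (maximalIdeal A) := (Ideal.Quotient.mk _).comp (algebraMap S B)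
    let F : PrimeSpectrum (B ⧸ Ideal.map (algebraMap A B) (maximalIdeal A)) → PrimeSpectrum S :=
      fun P => ⟨P.asIdeal.comap π, Ideal.IsPrime.comap _⟩
    have hF : StrictMono F := by
      intro P P' hlt
      refine lt_of_le_of_ne (Ideal.comap_mono hlt.le) fun h => hlt.ne (PrimeSpectrum.ext ?_)
      have h' := congrArg PrimeSpectrum.asIdeal h
      simp only [F, π] at h'
      rw [← Ideal.comap_comap, ← Ideal.comap_comap] at h'
      have h'' := congrArg (Ideal.map (algebraMap S B)) h'
      rw [IsLocalization.map_comap Q.primeCompl, IsLocalization.map_comap Q.primeCompl] at h''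
      exact Ideal.comap_injective_of_surjective _ Ideal.Quotient.mk_surjective h''
    have hle : ∀ P, (F P).asIdeal ≤ Q := fun P => by
      simp only [F, π]
      rw [← Ideal.comap_comap]
      refine (Ideal.comap_mono (IsLocalRing.le_maximalIdeal (Ideal.IsPrime.comap _).ne_top)).trans ?_
      exact le_of_eq Localization.AtPrime.comap_maximalIdeal
    have hq' : ∀ P, q ≤ (F P).asIdeal.comap (algebraMap R S) := fun P r hr => by
      show Ideal.Quotient.mk _ (algebraMap S B (algebraMap R S r)) ∈ P.asIdeal
      rw [← IsScalarTower.algebraMap_apply, IsScalarTower.algebraMap_apply R A B,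
        Ideal.Quotient.eq_zero_iff_mem.2 (Ideal.mem_map_of_mem _
          ((IsLocalization.AtPrime.to_map_mem_maximal_iff A q r).2 hr))]
      exact zero_mem _
    obtain ⟨l, hl⟩ : ∃ l : LTSeries (PrimeSpectrum (B ⧸ Ideal.map (algebraMap A B) (maximalIdeal A))), l.length = d := by
      have hne : Nonempty (PrimeSpectrum (B ⧸ Ideal.map (algebraMap A B) (maximalIdeal A))) := by
        by_contra hn
        rw [not_nonempty_iff] at hn
        rw [ringKrullDim, Order.krullDim_eq_bot] at hd
        exact WithBot.bot_ne_coe hd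
      exact (Order.le_krullDim_iff.1 (by rw [← ringKrullDim, hd]))
    rcases hcase with ⟨hq, h2⟩ | ⟨hq, -⟩
    · refine ⟨(F (l ⟨1, by omega⟩)).asIdeal, (F _).2, ?_, ?_⟩
      · exact lt_of_le_of_lt bot_le (hF (l.strictMono (show (⟨0, by omega⟩ : Fin _) < ⟨1, by omega⟩ from Nat.zero_lt_one)))
      · exact lt_of_lt_of_le (hF (l.strictMono (show (⟨1, by omega⟩ : Fin _) < ⟨2, by omega⟩ from Nat.one_lt_two))) (hle _)
    · refine ⟨(F (l ⟨0, by omega⟩)).asIdeal, (F _).2, bot_lt_iff_ne_bot.2 fun h => hq ?_, ?_⟩
      · refine le_bot_iff.1 ((hq' (l ⟨0, by omega⟩)).trans ?_)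
        rw [h]
        refine le_of_eq ?_
        exact (RingHom.injective_iff_ker_eq_bot _).1 (FaithfulSMul.algebraMap_injective R S)
      · exact lt_of_lt_of_le (hF (l.strictMono (show (⟨0, by omega⟩ : Fin _) < ⟨1, by omega⟩ from Nat.zero_lt_one))) (hle _)

end core

theorem valuationRing_quotient (R : Type u) [CommRing R] [IsDomain R]
    (hR : ∀ (p : Ideal R) [p.IsPrime], ValuationRing (Localization.AtPrime p)) (p : Ideal R) [p.IsPrime]
    (q : Ideal (R ⧸ p)) [q.IsPrime] : ValuationRing (Localization.AtPrime q) := by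
  haveI := hR (q.comap (Ideal.Quotient.mk p))
  refine Function.Surjective.valuationRing (Localization.localRingHom _ q (Ideal.Quotient.mk p) rfl) ?_
  intro z
  obtain ⟨⟨a, s⟩, rfl⟩ := IsLocalization.mk'_surjective q.primeCompl z
  obtain ⟨a, rfl⟩ := Ideal.Quotient.mk_surjective a
  obtain ⟨s', hs'⟩ := Ideal.Quotient.mk_surjective (s : R ⧸ p)
  refine ⟨IsLocalization.mk' _ a (⟨s', fun h => s.2 (hs' ▸ h)⟩ : (q.comap (Ideal.Quotient.mk p)).primeCompl), ?_⟩
  rw [Localization.localRingHom_mk']
  congr 1
  exact Subtype.ext hs'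

theorem comparable (R : Type u) [CommRing R] [IsDomain R]
    (hR : ∀ (p : Ideal R) [p.IsPrime], ValuationRing (Localization.AtPrime p)) {p r q : PrimeSpectrum R}
    (hp : p ≤ q) (hr : r ≤ q) : p ≤ r ∨ r ≤ p := by
  haveI := hR q.asIdeal
  haveI : IsDomain (Localization.AtPrime q.asIdeal) := IsLocalization.isDomain_localization q.asIdeal.primeCompl_le_nonZeroDivisors
  have key : ∀ w : PrimeSpectrum R, w ≤ q → (w.asIdeal.map (algebraMap R (Localization.AtPrime q.asIdeal))).comap (algebraMap R (Localization.AtPrime q.asIdeal)) = w.asIdeal :=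
    fun w hw => IsLocalization.comap_map_of_isPrime_disjoint q.asIdeal.primeCompl _ w.isPrime
      (Set.disjoint_left.2 fun x hx hxw => hx (hw hxw))
  rcases (ValuationRing.le_total_ideal (A := Localization.AtPrime q.asIdeal)).total (p.asIdeal.map (algebraMap R (Localization.AtPrime q.asIdeal)))
    (r.asIdeal.map (algebraMap R _)) with h | h
  · left; show p.asIdeal ≤ r.asIdeal; rw [← key p hp, ← key r hr]; exact Ideal.comap_mono h
  · right; show r.asIdeal ≤ p.asIdeal; rw [← key p hp, ← key r hr]; exact Ideal.comap_mono h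

theorem height_ne_top (R : Type u) [CommRing R] (hdim : ringKrullDim R < ⊤) (p : Ideal R) [p.IsPrime] : p.height ≠ ⊤ := by
  intro h
  have := Ideal.height_le_ringKrullDim_of_ne_top (I := p) Ideal.IsPrime.ne_top'
  rw [h] at this
  exact (not_lt.2 this) hdim

theorem height_toNat (R : Type u) [CommRing R] [IsDomain R]
    (hR : ∀ (p : Ideal R) [p.IsPrime], ValuationRing (Localization.AtPrime p)) (hdim : ringKrullDim R < ⊤)
    {p q : Ideal R} [p.IsPrime] [q.IsPrime] (hpq : p < q) :
    p.height.toNat < q.height.toNat ∧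
      ((∀ r : Ideal R, r.IsPrime → p < r → r < q → False) → q.height.toNat = p.height.toNat + 1) := by
  obtain ⟨a, ha⟩ := ENat.ne_top_iff_exists.1 (height_ne_top R hdim p)
  obtain ⟨b, hb⟩ := ENat.ne_top_iff_exists.1 (height_ne_top R hdim q)
  have hab : a < b := by
    haveI : p.FiniteHeight := p.finiteHeight_iff.mpr (Or.inr (height_ne_top R hdim p))
    have h := Ideal.height_strict_mono_of_isPrime hpq
    first | exact_mod_cast (ha ▸ hb ▸ h) | (rw [← ha, ← hb] at h; exact_mod_cast h)
  rw [← ha, ← hb]
  refine ⟨by simpa using hab, fun hno => ?_⟩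
  simp only [ENat.toNat_coe]
  let P : PrimeSpectrum R := ⟨p, inferInstance⟩
  let Q : PrimeSpectrum R := ⟨q, inferInstance⟩
  have hP : Order.height P = a := by rw [← PrimeSpectrum.height_eq_orderHeight]; exact ha.symm
  have hQ : Order.height Q = b := by rw [← PrimeSpectrum.height_eq_orderHeight]; exact hb.symm
  obtain ⟨l, hl, hlen⟩ := Order.exists_series_of_height_eq_coe Q hQ
  have hr : l ⟨b - 1, by omega⟩ < Q := by
    rw [← hl]; exact l.strictMono (show (⟨b - 1, by omega⟩ : Fin (l.length + 1)) < Fin.last _ from by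
      rw [Fin.lt_iff_val_lt_val]; simp; omega)
  have hrp : l ⟨b - 1, by omega⟩ ≤ P := by
    rcases comparable R hR (p := P) (r := l ⟨b - 1, by omega⟩) (q := Q) hpq.le hr.le with h | h
    · rcases eq_or_lt_of_le h with h' | h'
      · exact h'.symm.le
      · exact (hno _ (l _).2 h' hr).elim
    · exact h
  have h1 : ((b - 1 : ℕ) : ℕ∞) ≤ Order.height (l ⟨b - 1, by omega⟩) := by
    simpa using Order.index_le_height l ⟨b - 1, by omega⟩
  have h2 := h1.trans ((Order.height_mono hrp).trans hP.le)
  have : b - 1 ≤ a := by exact_mod_cast h2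
  omega

end PruferDimLib
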