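import Groth.Agent.PruferDimLib.Global
import Groth.Prelude.Def_Found
import Mathlib

/-! # Catenarity from a dimension function -/

set_option autoImplicit false
universe u
open IsLocalRing

namespace PruferDimLib

theorem series_length_le {T : Type u} [Preorder T] (f : T → ℤ) (hf : ∀ a b, a < b → f b < f a) (s : LTSeries T) :
    (s.length : ℤ) ≤ f s.head - f s.last := by
  have h : ∀ n : ℕ, (hn : n ≤ s.length) → (n : ℤ) ≤ f s.head - f (s ⟨n, by omega⟩) := by
    intro n
    induction n with
    | zero => intro _; simp [RelSeries.head]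
    | succ n ih =>
      intro hn
      have h1 := ih (by omega)
      have h2 := hf _ _ (s.strictMono (show (⟨n, by omega⟩ : Fin (s.length + 1)) < ⟨n + 1, by omega⟩ from Nat.lt_succ_self n))
      push_cast
      omega
  exact h s.length le_rfl

theorem series_length_eq {T : Type u} [Preorder T] (f : T → ℤ) (hcov : ∀ a b, a ⋖ b → f a = f b + 1) (s : LTSeries T)
    (hs : ∀ i : Fin s.length, s (Fin.castSucc i) ⋖ s (Fin.succ i)) : (s.length : ℤ) = f s.head - f s.last := by
  have h : ∀ n : ℕ, (hn : n ≤ s.length) → (n : ℤ) = f s.head - f (s ⟨n, by omega⟩) := by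
    intro n
    induction n with
    | zero => intro _; simp [RelSeries.head]
    | succ n ih =>
      intro hn
      have h1 := ih (by omega)
      have h2 : f (s ⟨n, by omega⟩) = f (s ⟨n + 1, by omega⟩) + 1 := hcov _ _ (hs ⟨n, by omega⟩)
      push_cast
      omega
  exact h s.length le_rfl

theorem catenary_and_dim (T : Type u) [CommRing T] (f : PrimeSpectrum T → ℤ) (hf : ∀ a b, a < b → f b < f a)
    (hcov : ∀ a b, a ⋖ b → f a = f b + 1) (lo hi : ℤ) (hlo : ∀ a, lo ≤ f a) (hhi : ∀ a, f a ≤ hi) :
    CAlg.IsCatenary T ∧ ringKrullDim T < ⊤ := by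
  refine ⟨⟨fun a b _ => ⟨(f a - f b).toNat, fun s h1 h2 => ?_⟩, fun s t h1 h2 hs ht => ?_⟩, ?_⟩
  · have h := series_length_le f hf s
    rw [h1, h2] at h
    omega
  · have a := series_length_eq f hcov s hs
    have b := series_length_eq f hcov t ht
    rw [h1, h2] at a
    omega
  · refine lt_of_le_of_lt (b := (((hi - lo).toNat : ℕ) : WithBot ℕ∞)) ?_ ?_
    · refine iSup_le fun s => ?_
      have h := series_length_le f hf s
      have := hlo s.last
      have := hhi s.head
      have hle : s.length ≤ (hi - lo).toNat := by omega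
      exact_mod_cast hle
    · exact WithBot.coe_lt_coe.2 (ENat.coe_lt_top _)

theorem trN_le (R S : Type u) [CommRing R] [CommRing S] [Algebra R S] [Algebra.FiniteType R S] :
    ∃ N : ℕ, ∀ P : Ideal S, P.IsPrime → trN R S P ≤ N := by
  classical
  obtain ⟨N, φ, hφ⟩ := Algebra.FiniteType.iff_quotient_mvPolynomial''.1 (inferInstance : Algebra.FiniteType R S)
  refine ⟨N, fun P hP => ?_⟩
  let ψ : MvPolynomial (Fin N) (R ⧸ P.under R) →ₐ[R ⧸ P.under R] S ⧸ P :=
    MvPolynomial.aeval fun i => Ideal.Quotient.mk P (φ (MvPolynomial.X i))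
  have hψ : Function.Surjective ψ := fun x => by
    obtain ⟨x, rfl⟩ := Ideal.Quotient.mk_surjective x
    obtain ⟨g, rfl⟩ := hφ x
    refine ⟨MvPolynomial.map (Ideal.Quotient.mk (P.under R)) g, ?_⟩
    induction g using MvPolynomial.induction_on with
    | C r =>
      rw [MvPolynomial.map_C, MvPolynomial.aeval_C, show φ (MvPolynomial.C r) = algebraMap R S r from φ.commutes r]
      rfl
    | add a b ha hb => rw [map_add, map_add, ha, hb, map_add, map_add]
    | mul_X a i ha =>
      rw [map_mul, map_mul, ha, MvPolynomial.map_X, map_mul, map_mul]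
      simp [ψ]
  haveI : IsDomain (R ⧸ P.under R) := Ideal.Quotient.isDomain _
  have h := trdeg_le_of_surjective ψ hψ
  rw [MvPolynomial.trdeg_of_isDomain, Cardinal.mk_fin, Cardinal.lift_natCast] at h
  exact (Cardinal.toNat_le_toNat h Cardinal.natCast_lt_aleph0).trans (Cardinal.toNat_natCast N).le

end PruferDimLib
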