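import Groth.Agent.PruferDimLib.Basic
import Mathlib

/-! # The dimension function is strictly decreasing and drops by one at covers -/

set_option autoImplicit false
universe u
open IsLocalRing

namespace PruferDimLib

theorem trN_eq_toNat (R S : Type u) [CommRing R] [CommRing S] [Algebra R S] (Q : Ideal S) [Q.IsPrime]
    {k K : Type u} [Field k] [Field K] (ψR : R →+* k) (ψS : S →+* K) (g : k →+* K)
    (hR : RingHom.ker ψR = Q.under R) (hS : RingHom.ker ψS = Q) (fR : DimIneqLib.IsFrac ψR)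
    (fS : DimIneqLib.IsFrac ψS) (hg : g.comp ψR = ψS.comp (algebraMap R S)) :
    trN R S Q = (DimIneqLib.trH g).toNat := by
  haveI : Q.LiesOver (Q.under R) := ⟨rfl⟩
  rw [DimIneqLib.trH_eq Q (Q.under R) ψR ψS hR hS fR fS g hg]
  simp only [trN, DimIneqLib.tr]
  rfl

theorem trN_quot (R S : Type u) [CommRing R] [CommRing S] [Algebra R S] (P Q : Ideal S) [P.IsPrime] [Q.IsPrime]
    (hPQ : P ≤ Q) [(Q.map (Ideal.Quotient.mk P)).IsPrime] :
    trN (R ⧸ P.under R) (S ⧸ P) (Q.map (Ideal.Quotient.mk P)) = trN R S Q := by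
  haveI : Q.LiesOver (Q.under R) := ⟨rfl⟩
  letI : Algebra (Localization.AtPrime (Q.under R)) (Localization.AtPrime Q) :=
    Localization.AtPrime.algebraOfLiesOver (Q.under R) Q
  obtain ⟨fR, hkR⟩ := isFrac_residue (Q.under R)
  obtain ⟨fS, hkS⟩ := isFrac_residue Q
  let ψR := (residue (Localization.AtPrime (Q.under R))).comp (algebraMap R _)
  let ψS := (residue (Localization.AtPrime Q)).comp (algebraMap S _)
  let g := algebraMap (ResidueField (Localization.AtPrime (Q.under R))) (ResidueField (Localization.AtPrime Q))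
  have hg : g.comp ψR = ψS.comp (algebraMap R S) := by
    ext r
    show g (residue _ (algebraMap R _ r)) = residue _ (algebraMap S (Localization.AtPrime Q) (algebraMap R S r))
    rw [← IsScalarTower.algebraMap_apply R S, IsScalarTower.algebraMap_apply R (Localization.AtPrime (Q.under R)) (Localization.AtPrime Q)]
    rfl
  have hR0 : ∀ r ∈ P.under R, ψR r = 0 := fun r hr => by
    rw [← RingHom.mem_ker, hkR]; exact Ideal.comap_mono hPQ hr
  have hS0 : ∀ s ∈ P, ψS s = 0 := fun s hs => by rw [← RingHom.mem_ker, hkS]; exact hPQ hs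
  rw [trN_eq_toNat R S Q ψR ψS g hkR hkS fR fS hg]
  refine trN_eq_toNat _ _ _ (Ideal.Quotient.lift _ ψR hR0) (Ideal.Quotient.lift _ ψS hS0) g ?_ ?_
    (fR.lift _ hR0) (fS.lift _ hS0) ?_
  · ext x
    obtain ⟨r, rfl⟩ := Ideal.Quotient.mk_surjective x
    rw [RingHom.mem_ker, Ideal.Quotient.lift_mk, ← RingHom.mem_ker, hkR]
    show algebraMap R S r ∈ Q ↔ Ideal.Quotient.mk P (algebraMap R S r) ∈ Q.map (Ideal.Quotient.mk P)
    rw [← Ideal.mem_comap (f := Ideal.Quotient.mk P), Ideal.comap_map_of_surjective' _ Ideal.Quotient.mk_surjective,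
      Ideal.mk_ker, sup_eq_left.2 hPQ]
  · ext x
    obtain ⟨r, rfl⟩ := Ideal.Quotient.mk_surjective x
    rw [RingHom.mem_ker, Ideal.Quotient.lift_mk, ← RingHom.mem_ker, hkS, ← Ideal.mem_comap,
      Ideal.comap_map_of_surjective' _ Ideal.Quotient.mk_surjective, Ideal.mk_ker, sup_eq_left.2 hPQ]
  · apply Ideal.Quotient.ringHom_ext
    exact hg

variable (R S : Type u) [CommRing R] [IsDomain R] [CommRing S] [Algebra R S] [Algebra.FiniteType R S]

/-- the dimension function -/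
noncomputable def delta (P : Ideal S) : ℤ := (trN R S P : ℤ) - ((P.under R).height.toNat : ℤ)

set_option maxHeartbeats 1600000 in
set_option synthInstance.maxHeartbeats 200000 in
theorem delta_lt (hR : ∀ (p : Ideal R) [p.IsPrime], ValuationRing (Localization.AtPrime p))
    (hdim : ringKrullDim R < ⊤) (P Q : Ideal S) [P.IsPrime] [Q.IsPrime] (hPQ : P < Q) :
    delta R S Q < delta R S P ∧
      (delta R S P ≠ delta R S Q + 1 → ∃ M : Ideal S, M.IsPrime ∧ P < M ∧ M < Q) := by
  classical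
  let p := P.under R
  let q := Q.under R
  have hpq : p ≤ q := Ideal.comap_mono hPQ.le
  let Q' : Ideal (S ⧸ P) := Q.map (Ideal.Quotient.mk P)
  have hcQ : Q'.comap (Ideal.Quotient.mk P) = Q := by
    rw [Ideal.comap_map_of_surjective' _ Ideal.Quotient.mk_surjective, Ideal.mk_ker, sup_eq_left.2 hPQ.le]
  haveI : Q'.IsPrime := Ideal.map_isPrime_of_surjective Ideal.Quotient.mk_surjective (by rw [Ideal.mk_ker]; exact hPQ.le)
  haveI : Algebra.FiniteType (R ⧸ p) (S ⧸ P) := Algebra.FiniteType.of_restrictScalars_finiteType R _ _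
  haveI : FaithfulSMul (R ⧸ p) (S ⧸ P) := (faithfulSMul_iff_algebraMap_injective _ _).2
    (by exact Ideal.algebraMap_quotient_injective)
  have hR' := fun (m : Ideal (R ⧸ p)) (hm : m.IsPrime) => @valuationRing_quotient R _ _ hR p _ m hm
  obtain ⟨d, e, hde, he, hd1, hmid⟩ := core (R ⧸ p) (S ⧸ P) hR' Q'
  rw [trN_quot R S P Q hPQ.le] at he
  have ht : trN R S P = d + e := by
    show Cardinal.toNat (Algebra.trdeg (R ⧸ p) (S ⧸ P)) = d + e
    rw [hde]; simp
  have hq' : Q'.under (R ⧸ p) = ⊥ ↔ q = p := by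
    have hc : (Q'.under (R ⧸ p)).comap (Ideal.Quotient.mk p) = q := by
      show (Ideal.comap (algebraMap (R ⧸ p) (S ⧸ P)) Q').comap (Ideal.Quotient.mk p) = _
      rw [Ideal.comap_comap, show ((algebraMap (R ⧸ p) (S ⧸ P)).comp (Ideal.Quotient.mk p)) =
        (Ideal.Quotient.mk P).comp (algebraMap R S) from rfl, ← Ideal.comap_comap, hcQ]
    constructor
    · intro h; rw [← hc, h, ← RingHom.ker_eq_comap_bot, Ideal.mk_ker]
    · intro h
      refine Ideal.comap_injective_of_surjective _ Ideal.Quotient.mk_surjective ?_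
      rw [hc, h, ← RingHom.ker_eq_comap_bot, Ideal.mk_ker]
  have hQ'0 : Q' ≠ ⊥ := fun h => hPQ.ne (by rw [← hcQ, h, ← RingHom.ker_eq_comap_bot, Ideal.mk_ker])
  have lift : (∃ M' : Ideal (S ⧸ P), M'.IsPrime ∧ ⊥ < M' ∧ M' < Q') → ∃ M : Ideal S, M.IsPrime ∧ P < M ∧ M < Q := by
    rintro ⟨M', hM', h0, h1⟩
    have hinj := Ideal.comap_injective_of_surjective (Ideal.Quotient.mk P) Ideal.Quotient.mk_surjective
    refine ⟨M'.comap (Ideal.Quotient.mk P), Ideal.IsPrime.comap _, ?_, ?_⟩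
    · refine lt_of_le_of_ne (fun x hx => ?_) fun h => h0.ne (hinj ?_)
      · rw [Ideal.mem_comap, Ideal.Quotient.eq_zero_iff_mem.2 hx]; exact zero_mem _
      · rw [← h, ← RingHom.ker_eq_comap_bot, Ideal.mk_ker]
    · refine lt_of_le_of_ne (hcQ ▸ Ideal.comap_mono h1.le) fun h => h1.ne (hinj (h.trans hcQ.symm))
  show (trN R S Q : ℤ) - (q.height.toNat : ℤ) < (trN R S P : ℤ) - (p.height.toNat : ℤ) ∧
    ((trN R S P : ℤ) - (p.height.toNat : ℤ) ≠ (trN R S Q : ℤ) - (q.height.toNat : ℤ) + 1 → _)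
  rw [he, ht]
  rcases eq_or_ne q p with hqp | hqp
  · have hd := hd1 (hq'.2 hqp) hQ'0
    rw [hqp]
    refine ⟨by omega, fun hne => lift (hmid (Or.inl ⟨hq'.2 hqp, by omega⟩))⟩
  · haveI : p.IsPrime := inferInstance
    have hlt : p < q := lt_of_le_of_ne hpq (Ne.symm hqp)
    obtain ⟨hh, hcov⟩ := height_toNat R hR hdim hlt
    refine ⟨by omega, fun hne => ?_⟩
    rcases Nat.eq_zero_or_pos d with hd0 | hd0
    swap
    · exact lift (hmid (Or.inr ⟨fun h => hqp (hq'.1 h), hd0⟩))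
    obtain ⟨r, hr, hpr, hrq⟩ : ∃ r : Ideal R, r.IsPrime ∧ p < r ∧ r < q := by
      by_contra hno
      push_neg at hno
      have := hcov (fun r hr h1 h2 => hno r hr h1 h2)
      omega
    haveI := hr
    haveI : Module.Flat (R ⧸ p) (S ⧸ P) := flat (R ⧸ p) (S ⧸ P) hR'
    haveI : (r.map (Ideal.Quotient.mk p)).IsPrime :=
      Ideal.map_isPrime_of_surjective Ideal.Quotient.mk_surjective (by rw [Ideal.mk_ker]; exact hpr.le)
    have hcr : (r.map (Ideal.Quotient.mk p)).comap (Ideal.Quotient.mk p) = r := by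
      rw [Ideal.comap_map_of_surjective' _ Ideal.Quotient.mk_surjective, Ideal.mk_ker, sup_eq_left.2 hpr.le]
    let q' := Q'.under (R ⧸ p)
    haveI : Q'.LiesOver q' := ⟨rfl⟩
    have hcq : q'.comap (Ideal.Quotient.mk p) = q := by
      show (Ideal.comap (algebraMap (R ⧸ p) (S ⧸ P)) Q').comap (Ideal.Quotient.mk p) = _
      rw [Ideal.comap_comap, show ((algebraMap (R ⧸ p) (S ⧸ P)).comp (Ideal.Quotient.mk p)) =
        (Ideal.Quotient.mk P).comp (algebraMap R S) from rfl, ← Ideal.comap_comap, hcQ]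
    have hlt' : r.map (Ideal.Quotient.mk p) < q' := by
      refine lt_of_le_of_ne (Ideal.map_le_iff_le_comap.2 (by rw [hcq]; exact hrq.le)) fun h => hrq.ne ?_
      rw [← hcr, h, hcq]
    obtain ⟨M', hM'lt, hM', hM'over⟩ := Ideal.exists_ideal_lt_liesOver_of_lt (p := r.map (Ideal.Quotient.mk p)) (q := q') Q' hlt'
    refine lift ⟨M', hM', bot_lt_iff_ne_bot.2 fun h => ?_, hM'lt⟩
    have h1 := hM'over.over
    rw [h] at h1
    have h2 : (r.map (Ideal.Quotient.mk p)) = ⊥ := h1.trans ((RingHom.injective_iff_ker_eq_bot _).1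
      (FaithfulSMul.algebraMap_injective (R ⧸ p) (S ⧸ P)))
    rw [h2, ← RingHom.ker_eq_comap_bot, Ideal.mk_ker] at hcr
    exact hpr.ne hcr

end PruferDimLib
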